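import Cfsg.Agent.SP.Mon.D1.Mod
import Cfsg.Agent.SP.Mon.L3.Iface
import Cfsg.Agent.TAB.C3B.Ident

/-! # S5755, the Monster: the boxes `CQ`, `N2`, `N3`, `N5`, `NI` (helper22) -/

set_option autoImplicit false
set_option maxRecDepth 100000

namespace Cfsg.Agent.SP.Mon.D1

open Subgroup Cfsg Cfsg.Agent.TAB.C3B
open Cfsg.Agent.MonsterX Cfsg.Agent.MonsterP Cfsg.Agent.LThreeMB
open Cfsg.Agent.BpSpor.MBigModel (MG zz pi chart cls)
open Cfsg.Agent.DS.M.Con (TB cent_map)

section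

variable {G : Type*} [Group G]

/-- the radical of the model -/
theorem tb_ker {x : G} {N : Subgroup G} (h : TB x N) (m : TAB.C3B.Mod ↥(centralizer ({x} : Set G)))
    (hX : (m.X 1 : G) = x ∨ (m.X 1 : G) = x⁻¹) : TB x (m.R.ker.map (centralizer ({x} : Set G)).subtype) := by
  have hz : ∀ c, (m.X c : G) ∈ zpowers x := fun c => by
    have h1 : m.X c = m.X 1 ^ c.val := by rw [m.X_pow, ZMod.natCast_zmod_val, mul_one]
    rw [h1, Subgroup.coe_pow]
    refine pow_mem ?_ _
    rcases hX with e | e <;> rw [e]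
    · exact mem_zpowers x
    · exact inv_mem (mem_zpowers x)
  refine ⟨h.ox, map_subtype_le _, fun g hg => ?_, ?_, ?_, ?_, h.full, h.ps⟩
  · have : Finite ↥(m.R.ker.map (centralizer ({x} : Set G)).subtype) := Nat.finite_of_card_ne_zero (by
      rw [card_map_of_injective (subtype_injective _), card_ker]; norm_num)
    refine mem_normalizer_fintype ?_
    rintro _ ⟨n, hn, rfl⟩
    exact ⟨_, (inferInstance : m.R.ker.Normal).conj_mem n hn ⟨g, hg⟩, rfl⟩
  · rw [card_map_of_injective (subtype_injective _), card_ker]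
  · rintro _ ⟨a, ha, rfl⟩ _ ⟨b, hb, rfl⟩
    obtain ⟨c, hc⟩ := ker_comm (m := m) ha hb
    have h1 := hz c
    rw [← hc] at h1
    exact h1
  · rintro _ ⟨a, ha, rfl⟩ hc
    obtain ⟨c, rfl⟩ := ker_cen (m := m) ha fun b hb => Subtype.ext (hc _ ⟨b, hb, rfl⟩)
    exact hz c

/-- the elements of the radical inverted by an element that inverts the centre -/
theorem inv_le [Finite G] {x u : G} {N : Subgroup G} (h : TB x N) (hu : u * x * u⁻¹ = x⁻¹) :
    {n | n ∈ N ∧ u * n * u⁻¹ = n⁻¹}.ncard ≤ 3 ^ 7 := by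
  have hab : ∀ a b : G, a ∈ N ∧ u * a * u⁻¹ = a⁻¹ → b ∈ N ∧ u * b * u⁻¹ = b⁻¹ → a * b = b * a := by
    rintro a b ⟨ha, ha'⟩ ⟨hb, hb'⟩
    obtain ⟨k, hk⟩ := h.comm a ha b hb
    have hk' : x ^ k = a * b * a⁻¹ * b⁻¹ := hk
    have c1 : Commute a (x ^ k) := Commute.zpow_right (mem_centralizer_singleton_iff.1 (h.le ha)) k
    have c2 : Commute b (x ^ k) := Commute.zpow_right (mem_centralizer_singleton_iff.1 (h.le hb)) k
    have h1 : u * x ^ k * u⁻¹ = (x ^ k)⁻¹ := by rw [← conj_zpow, hu, inv_zpow]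
    have h2 : a * b = x ^ k * (b * a) := by rw [hk']; group
    have h3 : u * x ^ k * u⁻¹ = x ^ k := by
      calc u * x ^ k * u⁻¹ = (u * a * u⁻¹) * (u * b * u⁻¹) * (u * a * u⁻¹)⁻¹ * (u * b * u⁻¹)⁻¹ := by rw [hk']; group
        _ = (b * a)⁻¹ * (a * b) := by rw [ha', hb']; group
        _ = x ^ k := by rw [h2, ← (c2.mul_left c1).eq, inv_mul_cancel_left]
    have h4 : (x ^ k) ^ 3 = 1 := by
      rw [← zpow_natCast, ← zpow_mul, mul_comm, zpow_mul, zpow_natCast, ← h.ox, pow_orderOf_eq_one, one_zpow]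
    have h5 : x ^ k * x ^ k = 1 := by
      conv_lhs => rw [← h3, h1]
      conv_lhs => rhs; rw [← h1, h3]
      exact inv_mul_cancel _
    rw [pow_succ, pow_two, h5, one_mul] at h4
    rw [h2, h4, one_mul]
  let A : Subgroup G :=
    { carrier := {n | n ∈ N ∧ u * n * u⁻¹ = n⁻¹}
      one_mem' := ⟨N.one_mem, by group⟩
      mul_mem' := fun {a b} ha hb => ⟨N.mul_mem ha.1 hb.1, by
        rw [hab a b ha hb, mul_inv_rev (b := a), ← ha.2, ← hb.2, ← hab a b ha hb]; group⟩
      inv_mem' := fun {a} ha => ⟨N.inv_mem ha.1, by rw [← conj_inv, ha.2]⟩ }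
  exact h.ab_le (A := A) (fun a ha => ha.1) fun a ha b hb => hab a b ha hb

theorem ncard_map (e : G ≃* G) (n : ℕ) (x x' : G) :
    {y | orderOf y = n ∧ y * e x = e x' * y}.ncard = {y | orderOf y = n ∧ y * x = x' * y}.ncard := by
  rw [← Set.ncard_image_of_injective {y | orderOf y = n ∧ y * x = x' * y} e.injective]
  congr 1
  ext y
  obtain ⟨y, rfl⟩ := e.surjective y
  rw [e.injective.mem_set_image, Set.mem_ofPred_eq, Set.mem_ofPred_eq, e.orderOf_eq, ← map_mul, ← map_mul,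
    e.injective.eq_iff]

theorem ncard_sub [Finite G] (n : ℕ) (x : G) :
    {y | orderOf y = n ∧ y * x = x * y}.ncard ≤ {g : centralizer ({x} : Set G) | g ^ n = 1}.ncard := by
  rw [← Set.ncard_image_of_injective _ Subtype.val_injective]
  refine Set.ncard_le_ncard fun y hy => ⟨⟨y, mem_centralizer_singleton_iff.2 hy.2⟩, Subtype.ext ?_, rfl⟩
  show y ^ n = 1
  rw [← hy.1, pow_orderOf_eq_one]

theorem ni_le [Finite G] {x : G} {N : Subgroup G} (h : TB x N) (m : TAB.C3B.Mod ↥(centralizer ({x} : Set G)))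
    (hX : (m.X 1 : G) = x ∨ (m.X 1 : G) = x⁻¹) : {t | orderOf t = 2 ∧ t * x = x⁻¹ * t}.ncard ≤ 4 * 10 ^ 10 := by
  rcases Set.eq_empty_or_nonempty {t | orderOf t = 2 ∧ t * x = x⁻¹ * t} with k | ⟨u, hu, hux⟩
  · rw [k, Set.ncard_empty]
    exact Nat.zero_le _
  have sq : ∀ t : G, orderOf t = 2 → t⁻¹ = t := fun t ht =>
    inv_eq_of_mul_eq_one_left (by rw [← pow_two, ← ht, pow_orderOf_eq_one])
  have iv : ∀ t : G, t * x = x⁻¹ * t → t * x⁻¹ = x * t := fun t ht => by
    calc t * x⁻¹ = x * (x⁻¹ * t) * x⁻¹ := by group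
      _ = x * t := by rw [← ht]; group
  have hu2 : u * u = 1 := by rw [← pow_two, ← hu, pow_orderOf_eq_one]
  have hm : ∀ t : G, t * x = x⁻¹ * t → u * t ∈ centralizer ({x} : Set G) := fun t ht =>
    mem_centralizer_singleton_iff.2 (by rw [mul_assoc, ht, ← mul_assoc, iv u hux, mul_assoc])
  have hd : ∀ d : centralizer ({x} : Set G), u * d * x = x⁻¹ * (u * d) := fun d => by
    rw [mul_assoc, mem_centralizer_singleton_iff.1 d.2, ← mul_assoc, hux, mul_assoc]
  let α : centralizer ({x} : Set G) →* centralizer ({x} : Set G) := MonoidHom.mk'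
    (fun d => ⟨u * (d * u), hm _ (by
      rw [mul_assoc, hux, ← mul_assoc, ← mul_assoc]
      congr 1
      exact (Commute.inv_right (mem_centralizer_singleton_iff.1 d.2)).eq)⟩) fun a b => Subtype.ext (by
    show u * ((a : G) * b * u) = u * (a * u) * (u * (b * u))
    rw [mul_assoc u, mul_assoc (a : G) u, ← mul_assoc u u, hu2, one_mul, mul_assoc])
  have hα : ∀ d, (α d : G) = u * (d * u) := fun _ => rfl
  have hs : Function.Surjective α := fun d => ⟨α d, Subtype.ext (by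
    rw [hα, hα, ← mul_assoc, ← mul_assoc, hu2, one_mul, mul_assoc, hu2, mul_one])⟩
  have h1 : {t | orderOf t = 2 ∧ t * x = x⁻¹ * t} ⊆
      (fun d : centralizer ({x} : Set G) => u * d) '' {d | α d = d⁻¹} := fun t ht =>
    ⟨⟨u * t, hm t ht.2⟩, Subtype.ext (by
      show u * (u * t * u) = (u * t)⁻¹
      rw [← mul_assoc, ← mul_assoc, hu2, one_mul, mul_inv_rev, sq t ht.1, sq u hu]), by
      show u * (u * t) = t
      rw [← mul_assoc, hu2, one_mul]⟩
  refine (Set.ncard_le_ncard h1).trans ((Set.ncard_image_le).trans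
    ((n_inv (m := m) hs (c := 3 ^ 7) fun a ha => ?_).trans (by norm_num)))
  refine le_trans ?_ (inv_le (u := u * a) (tb_ker h m hX) (by rw [hd]; group))
  refine Set.ncard_le_ncard_of_injOn (fun d => (a : G)⁻¹ * d) (fun d hd' => ⟨⟨a⁻¹ * d, ?_, rfl⟩, ?_⟩)
    fun d _ d' _ k => Subtype.ext (mul_left_cancel k)
  · show m.R (a⁻¹ * d) = 1
    rw [map_mul, map_inv, hd'.2, inv_mul_cancel]
  · have e1 : u * ((a : G) * u) = (a : G)⁻¹ := congrArg Subtype.val ha
    have e2 : u * ((d : G) * u) = (d : G)⁻¹ := congrArg Subtype.val hd'.1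
    calc u * a * ((a : G)⁻¹ * d) * (u * a)⁻¹ = u * (d * u) * (u * ((a : G) * u))⁻¹ := by group
      _ = _ := by rw [e1, e2]; group

end

theorem exists_model {x : MG} (h : T3B x) : ∃ (x' : MG) (e : MG ≃* MG) (N : Subgroup MG)
    (m : TAB.C3B.Mod ↥(centralizer ({x'} : Set MG))), e x' = x ∧ TB x' N ∧
      ((m.X 1 : MG) = x' ∨ (m.X 1 : MG) = x'⁻¹) := by
  obtain ⟨x', h1, h2, c, rfl⟩ := h
  obtain ⟨N, hN⟩ := DS.M.Con.exists_TB h1 h2
  obtain ⟨m, -, hm⟩ := exists_mod h1 h2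
  exact ⟨x', MulAut.conj c, N, m, rfl, hN, hm⟩

theorem boxN3 : BoxN3 := fun x hx => by
  have := BpSpor.MBigModel.finite
  obtain ⟨x', e, N, m, rfl, -, -⟩ := exists_model hx
  rw [ncard_map]
  exact (ncard_sub 3 x').trans ((n_odd m (by decide)).trans ((Nat.mul_le_mul_left _ n_three).trans (by norm_num)))

theorem boxN5 : BoxN5 := fun x hx => by
  have := BpSpor.MBigModel.finite
  obtain ⟨x', e, N, m, rfl, -, -⟩ := exists_model hx
  rw [ncard_map]
  exact (ncard_sub 5 x').trans ((n_odd m (by decide)).trans ((Nat.mul_le_mul_left _ n_five).trans (by norm_num)))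

theorem boxN2 : BoxN2 := fun x hx => by
  have := BpSpor.MBigModel.finite
  obtain ⟨x', e, N, m, rfl, -, -⟩ := exists_model hx
  rw [ncard_map]
  exact (ncard_sub 2 x').trans (n_two m)

theorem boxNI : BoxNI := fun x hx => by
  have := BpSpor.MBigModel.finite
  obtain ⟨x', e, N, m, rfl, hN, hm⟩ := exists_model hx
  rw [← map_inv, ncard_map]
  exact ni_le hN m hm

theorem boxCQ : BoxCQ := fun x hx => by
  have := BpSpor.MBigModel.finite
  obtain ⟨x', e, N, m, rfl, hN, hm⟩ := exists_model hx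
  refine ⟨_, (tb_ker hN m hm).map e, fun y h3 hy hn => ?_⟩
  obtain ⟨y, rfl⟩ := e.surjective y
  rw [e.orderOf_eq] at h3
  rw [← map_mul, ← map_mul, e.injective.eq_iff] at hy
  rw [← cent_map, ← cent_map, ← map_inf _ _ _ e.injective, card_map_of_injective e.injective]
  let y' : centralizer ({x'} : Set MG) := ⟨y, mem_centralizer_singleton_iff.2 hy⟩
  refine le_trans ?_ (cent_three (m := m) (y := y') (Subtype.ext ?_) fun k => hn ⟨y, ⟨y', k, rfl⟩, rfl⟩)
  · refine Nat.card_le_card_of_injective (fun g => ⟨⟨g, g.2.1⟩, mem_centralizer_singleton_iff.2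
      (Subtype.ext (mem_centralizer_singleton_iff.1 g.2.2))⟩) fun a b k => ?_
    exact Subtype.ext (congrArg (fun t : centralizer ({y'} : Set _) => ((t : centralizer ({x'} : Set MG)) : MG)) k)
  · show y ^ 3 = 1
    rw [← h3, pow_orderOf_eq_one]

end Cfsg.Agent.SP.Mon.D1
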