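import Cfsg.Agent.TAB.C3B.Basic
import Cfsg.Agent.TAB.C3B.Cen
import Cfsg.Agent.TAB.C3B.Rep
import Cfsg.Agent.TID.Suz.Fam
import Cfsg.Agent.KFacts.SuzTwoB

/-! # S5755, the Monster: classes of `Suz` and eigenspaces in `2Suz` (helper22) -/

set_option autoImplicit false
set_option maxRecDepth 100000
set_option exponentiation.threshold 5000
set_option Elab.async false

namespace Cfsg.Agent.SP.Mon.D1

open Matrix Cfsg Subgroup Cfsg.Agent.H920.Sz12 Cfsg.Agent.TAB.C3B Cfsg.Agent.TAB.C3B.Cen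
open Cfsg.Spor (Suz)
open Cfsg.Agent.TID.Suz Cfsg.Agent.H714.S8.SuzFam Cfsg.Agent.H123.Cls
open Cfsg.Agent.H123.Cls.SuzDat (gens comm_tab row key)
open Cfsg.Agent.OddHalf.Table.SuzRep (ψ)

/-- counting by fibres -/
theorem fib {α β : Type*} [Finite α] (B : Set α) (g : α → β) {T : Set β} (hf : T.Finite) (m : ℕ)
    (hT : ∀ a ∈ B, g a ∈ T) (hm : ∀ a₀ ∈ B, {a | a ∈ B ∧ g a = g a₀}.ncard ≤ m) : B.ncard ≤ m * T.ncard := by
  classical
  have hB : B.Finite := Set.toFinite B
  rw [Set.ncard_eq_toFinset_card B hB, Set.ncard_eq_toFinset_card T hf]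
  refine Finset.card_le_mul_card_image_of_maps_to (f := g)
    (fun a ha => hf.mem_toFinset.2 (hT a (hB.mem_toFinset.1 ha))) m fun b _ => ?_
  rcases (hB.toFinset.filter fun a => g a = b).eq_empty_or_nonempty with he | ⟨a₀, ha₀⟩
  · rw [he]
    exact Nat.zero_le _
  · rw [Finset.mem_filter, hB.mem_toFinset] at ha₀
    refine le_trans (le_of_eq ?_) (hm a₀ ha₀.1)
    rw [← Set.ncard_coe_finset, ha₀.2]
    congr 1
    ext a
    simp

theorem fin_Suz : Finite Suz := H714.S8.SuzFam.finite_Suz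

/-! ### classes of `Suz` -/

theorem isConj_of_fam {u g : Suz} {i : ℕ} (hu : fam u = i) (hg : fam g = i)
    (h : CS u * SZ.getD i 0 ≤ 448345497600) : IsConj u g := by
  have := fin_Suz
  have h1 := cls_mul u
  have h2 := fam_ncard i
  have h0 : 0 < CS u := Nat.card_pos
  have h3 : {y : Suz | IsConj u y} = {y : Suz | fam y = i} := by
    refine Set.eq_of_subset_of_ncard_le (fun y hy => (fam_isConj hy).trans hu) ?_
    rw [h2]
    refine Nat.le_of_mul_le_mul_left ?_ h0
    rw [mul_comm _ (Set.ncard _)]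
    exact h.trans h1.ge
  have h4 : g ∈ {y : Suz | fam y = i} := hg
  rw [← h3] at h4
  exact h4

theorem fam_cm {P i : ℕ} {a b cs : List ℕ} (hi : i < 37) (h1 : chkC 1782 11 gens P a b = true)
    (h2 : chkSig 1782 11 row 11 P key cs = true) (hl : cs.length = key.length) (hc : cs = SL.getD i []) :
    fam (sw (cmW a b)) = i := by
  have hr : ∀ p : Fin 1782, (ψ (sw (cmW a b)) p : ℕ) = lk 11 P p := by
    rw [sw_cmW]
    exact comm_tab h1
  exact fam_of_sg hi ((sig_of_chk (by norm_num) hr h2 hl).trans hc)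

theorem conj36 {s : Suz} (h : fam s = 36) : IsConj (sw (cmW [3] [4])) s := by
  refine isConj_of_fam (fam_cm (by norm_num) SuzDat.cm36 SuzDat.sg36 rfl rfl) h ?_
  have h1 := (cs_le_odd odd36).trans (card_CA SuzDat.cm36 SuzDat.bd36)
  rw [show SZ.getD 36 0 = 45760 from rfl]
  omega

theorem conj4 {s : Suz} (h : fam s = 4) : IsConj (sw (cmW [2] [1, 6, 5, 3, 1])) s := by
  refine isConj_of_fam (fam_cm (by norm_num) SuzDat.cm4 SuzDat.sg4 rfl rfl) h ?_
  have h1 := (cs_le_odd odd4).trans (card_CA SuzDat.cm4 SuzDat.bd4)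
  rw [show SZ.getD 4 0 = 12812800 from rfl]
  exact (Nat.mul_le_mul_right _ (Nat.le_of_mul_le_mul_left (b := 34992) h1 two_pos)).trans (by norm_num)

theorem conj0 {s : Suz} (h : fam s = 0) : IsConj (sw (cmW [5] [6])) s := by
  refine isConj_of_fam (fam_cm (by norm_num) SuzDat.cm0 SuzDat.sg0 rfl rfl) h ?_
  have h1 := (cs_le_odd odd0).trans (card_CA SuzDat.cm0 SuzDat.bd0)
  rw [show SZ.getD 0 0 = 135135 from rfl]
  exact (Nat.mul_le_mul_right _ (Nat.le_of_mul_le_mul_left (b := 3317760) h1 two_pos)).trans (by norm_num)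

/-- involutions -/
theorem fam_two {g : Suz} (h : g ^ 2 = 1) : fam g = 1 ∨ fam g = 0 ∨ fam g = 31 := by
  have h1 := fam_sq g
  rw [h, fam_one] at h1
  have h2 : ∀ i < 37, 1 = P2.getD i 0 → i = 1 ∨ i = 0 ∨ i = 31 := by decide +kernel
  exact h2 _ (fam_lt g) h1

theorem conj31 {s : Suz} (h : fam s = 31) : IsConj (sw [4]) s := by
  have h0 : CS (sw [4]) = 161280 := KFacts.SuzTwoB.card_CE
  have h1 : fam (sw [4]) = 31 := by
    have h2 := cent_mul (sw [4])
    rw [show Nat.card (centralizer ({sw [4]} : Set Suz)) = 161280 from h0] at h2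
    rcases fam_two (g := sw [4]) (by rw [pow_two, sw_cons, sw_nil, mul_one, of_sq]) with h3 | h3 | h3
    · rw [h3, show SZ.getD 1 0 = 1 from rfl] at h2
      omega
    · rw [h3, show SZ.getD 0 0 = 135135 from rfl] at h2
      omega
    · exact h3
  refine isConj_of_fam h1 h ?_
  rw [h0, show SZ.getD 31 0 = 2779920 from rfl]

theorem cs_six {s : Suz} (h : fam s = 6) : CS s ≤ 6480 := by
  have h2 := cent_mul s
  rw [h, show SZ.getD 6 0 = 138378240 from rfl] at h2
  unfold CS
  omega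

theorem n_three : {s : Suz | s ^ 3 = 1}.ncard ≤ 151236801 := by
  have := fin_Suz
  have : Fact (Nat.Prime 3) := ⟨Nat.prime_three⟩
  have h1 : {s : Suz | s ^ 3 = 1} ⊆ (({s | fam s = 1} ∪ {s | fam s = 4}) ∪ {s | fam s = 6}) ∪ {s | fam s = 36} := by
    intro s hs
    by_cases h : s = 1
    · exact Or.inl (Or.inl (Or.inl (fam_eq_one.2 h)))
    · rcases fam_three (orderOf_eq_prime hs h) with k | k | k
      · exact Or.inl (Or.inl (Or.inr k))
      · exact Or.inl (Or.inr k)
      · exact Or.inr k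
  refine (Set.ncard_le_ncard h1).trans ((Set.ncard_union_le _ _).trans ?_)
  refine (Nat.add_le_add_right ((Set.ncard_union_le _ _).trans (Nat.add_le_add_right (Set.ncard_union_le _ _) _)) _).trans ?_
  rw [fam_ncard, fam_ncard, fam_ncard, fam_ncard]
  decide +kernel

theorem n_five : {s : Suz | s ^ 5 = 1}.ncard ≤ 1743565825 := by
  have := fin_Suz
  have : Fact (Nat.Prime 5) := ⟨Nat.prime_five⟩
  have h1 : {s : Suz | s ^ 5 = 1} ⊆ ({s | fam s = 1} ∪ {s | fam s = 14}) ∪ {s | fam s = 34} := by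
    intro s hs
    by_cases h : s = 1
    · exact Or.inl (Or.inl (fam_eq_one.2 h))
    · rcases fam_five (orderOf_eq_prime hs h) with k | k
      · exact Or.inl (Or.inr k)
      · exact Or.inr k
  refine (Set.ncard_le_ncard h1).trans ((Set.ncard_union_le _ _).trans ?_)
  refine (Nat.add_le_add_right (Set.ncard_union_le _ _) _).trans ?_
  rw [fam_ncard, fam_ncard, fam_ncard]
  decide +kernel

/-- sets like the elements inverted by an automorphism -/
theorem sq_le {I : Set Suz} (h : ∀ s ∈ I, ∀ t ∈ I, ∀ x, s * x ∈ I → t * x ∈ I → t⁻¹ * s * x = x * (t⁻¹ * s)) :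
    I.ncard ≤ 5760000 := by
  have := fin_Suz
  have h1 : (I ×ˢ I).ncard ≤ (2 * 448345497600) * (Set.Iio 37).ncard := by
    refine fib (I ×ˢ I) (fun p => fam (p.1⁻¹ * p.2)) (Set.finite_Iio 37) _ (fun p _ => fam_lt _) fun p₀ _ => ?_
    set i := fam (p₀.1⁻¹ * p₀.2) with hi
    have h2 := fib {p | p ∈ I ×ˢ I ∧ fam (p.1⁻¹ * p.2) = i} (fun p => p.1⁻¹ * p.2) (T := {x | fam x = i})
      (Set.toFinite _) (2 * 448345497600 / SZ.getD i 0) (fun p hp => hp.2) fun q hq => by
        set x := q.1⁻¹ * q.2 with hx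
        have h3 : {p | p ∈ {p | p ∈ I ×ˢ I ∧ fam (p.1⁻¹ * p.2) = i} ∧ p.1⁻¹ * p.2 = x}.ncard ≤
            (centralizer ({x} : Set Suz) : Set Suz).ncard := by
          refine Set.ncard_le_ncard_of_injOn (fun p => q.1⁻¹ * p.1) (fun p hp => ?_) fun p hp p' hp' e => ?_
          · refine mem_centralizer_singleton_iff.2 (h _ hp.1.1.1 _ hq.1.1 x ?_ ?_)
            · rw [← hp.2, mul_inv_cancel_left]
              exact hp.1.1.2
            · rw [hx, mul_inv_cancel_left]
              exact hq.1.2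
          · have e1 : p.1 = p'.1 := mul_left_cancel e
            have e2 := hp.2.trans hp'.2.symm
            rw [e1] at e2
            exact Prod.ext e1 (mul_left_cancel e2)
        refine h3.trans ?_
        have h4 := cent_mul x
        have h5 : fam x = i := hq.2
        rw [h5] at h4
        have h6 : 0 < SZ.getD i 0 := by
          rcases Nat.eq_zero_or_pos (SZ.getD i 0) with h6 | h6
          · rw [h6] at h4
            omega
          · exact h6
        rw [Nat.le_div_iff_mul_le h6, ← Nat.card_coe_set_eq]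
        rcases h4 with h4 | h4
        · exact h4.le.trans (by norm_num)
        · exact h4.le
    rw [fam_ncard] at h2
    exact h2.trans (Nat.div_mul_le_self _ _)
  rw [Set.ncard_prod, Set.ncard_Iio_nat] at h1
  by_contra h2
  have h3 : 5760001 ≤ I.ncard := by omega
  have h4 := (Nat.mul_le_mul h3 h3).trans h1
  omega

/-! ### `2Suz` -/

theorem lift_conj {s u : Suz} {A X : GL12} (hs : φ s = (QuotientGroup.mk A : QQ)) (hu : φ u = (QuotientGroup.mk X : QQ))
    (h : IsConj u s) : ∃ B ∈ W, X * B = B * A ∨ X * B = -(B * A) := by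
  obtain ⟨c, hc⟩ := isConj_iff.1 h
  obtain ⟨B, hB⟩ := QuotientGroup.mk_surjective (φ c⁻¹)
  refine ⟨B, mem_W.2 ⟨_, hB.symm⟩, mk_eq_iff.1 ?_⟩
  rw [QuotientGroup.mk_mul, QuotientGroup.mk_mul, hB, ← hs, ← hu, ← map_mul, ← map_mul, ← hc]
  congr 1
  group

/-- the size of an eigenspace -/
noncomputable def Eg (A : M12) (e : ZMod 3) : ℕ := {u : V12 | u ᵥ* A = e • u}.ncard

theorem Eg_le (A : M12) (e : ZMod 3) : Eg A e ≤ 3 ^ 12 := by
  rw [← card_rows, ← Set.ncard_univ]
  exact Set.ncard_le_ncard (Set.subset_univ _)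

theorem Eg_neg (A : M12) (e : ZMod 3) : Eg (-A) e = Eg A (-e) := by
  unfold Eg
  congr 1
  ext u
  simp only [Set.mem_ofPred_eq, vecMul_neg, neg_smul, neg_eq_iff_eq_neg]

theorem Eg_conj {A X B : GL12} (h : X * B = B * A) (e : ZMod 3) : Eg (A : M12) e ≤ Eg (X : M12) e := by
  refine Set.ncard_le_ncard_of_injOn (fun u => u ᵥ* ((B⁻¹ : GL12) : M12)) (fun u hu => ?_) fun u _ v _ k => ?_
  · have h1 : B⁻¹ * X = A * B⁻¹ := by
      rw [inv_mul_eq_iff_eq_mul, ← mul_assoc, ← h, mul_inv_cancel_right]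
    have h2 : u ᵥ* (A : M12) = e • u := hu
    show (u ᵥ* ((B⁻¹ : GL12) : M12)) ᵥ* (X : M12) = e • (u ᵥ* ((B⁻¹ : GL12) : M12))
    rw [vecMul_vecMul, ← Units.val_mul, h1, Units.val_mul, ← vecMul_vecMul, h2, smul_vecMul]
  · have h1 := congrArg (fun w => w ᵥ* (B : M12)) k
    simpa only [vecMul_inv_cancel] using h1

theorem Eg_proper {A : GL12} (h : A ≠ 1) : Eg (A : M12) 1 ≤ 3 ^ 11 := by
  let L : V12 →+ V12 := AddMonoidHom.mk' (fun w => w ᵥ* (A : M12) - w) fun a b => by rw [add_vecMul]; abel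
  have h1 : Eg (A : M12) 1 = Nat.card L.ker := by
    rw [Eg, ← Nat.card_coe_set_eq]
    refine Nat.card_congr (Equiv.subtypeEquivRight fun u => ?_)
    show u ᵥ* (A : M12) = (1 : ZMod 3) • u ↔ u ᵥ* (A : M12) - u = 0
    rw [one_smul, sub_eq_zero]
  have h2 := L.ker.card_addSubgroup_dvd_card
  rw [card_rows] at h2
  obtain ⟨k, hk, h3⟩ := (Nat.dvd_prime_pow Nat.prime_three).1 h2
  rw [h1, h3]
  refine Nat.pow_le_pow_right (by norm_num) ?_
  by_contra h4
  have h5 : k = 12 := by omega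
  have h6 : L.ker = ⊤ := AddSubgroup.eq_top_of_card_eq _ (by rw [h3, h5, card_rows])
  refine h (Units.ext (Matrix.ext fun i j => ?_))
  have h7 : (Pi.single i 1 : V12) ∈ L.ker := by rw [h6]; trivial
  have h8 : (Pi.single i 1 : V12) ᵥ* (A : M12) = Pi.single i 1 := sub_eq_zero.1 h7
  rw [single_one_vecMul] at h8
  rw [Units.val_one, Matrix.one_apply]
  refine (congrFun h8 j).trans ?_
  rw [Pi.single_apply]
  exact if_congr eq_comm rfl rfl

theorem ker_le {T P E : M12} (h : T * P + E = 1) (I : Finset I12) (hE : ∀ i ∉ I, E i = 0) :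
    {u : V12 | u ᵥ* T = 0}.ncard ≤ 3 ^ I.card := by
  have h1 : (Set.univ : Set (I → ZMod 3)).ncard = 3 ^ I.card := by
    rw [Set.ncard_univ, Nat.card_eq_fintype_card, Fintype.card_fun, ZMod.card, Fintype.card_coe]
  rw [← h1]
  refine Set.ncard_le_ncard_of_injOn (fun u i => u i) (fun _ _ => trivial) fun u hu v hv k => ?_
  have h2 : (u - v) ᵥ* T = 0 := by rw [sub_vecMul, show u ᵥ* T = 0 from hu, show v ᵥ* T = 0 from hv, sub_zero]
  rw [← sub_eq_zero, ← vecMul_one (u - v), ← h, vecMul_add, ← vecMul_vecMul, h2, zero_vecMul, zero_add]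
  funext j
  show ∑ i, (u - v) i * E i j = 0
  refine Finset.sum_eq_zero fun i _ => ?_
  by_cases hi : i ∈ I
  · have h3 : u i = v i := congrFun k ⟨i, hi⟩
    rw [Pi.sub_apply, h3, sub_self, zero_mul]
  · rw [hE i hi, Pi.zero_apply, mul_zero]

/-- the generators and two more matrices -/
def ct (P E : List ℕ) : ℕ → List ℕ := tab [aR, bR, cR, dR, eR, fR, gR, P, E]

theorem Eg_cert {P E w l : List ℕ} {e n : ℕ} (hg : ([aR, bR, cR, dR, eR, fR, gR, P, E].all good) = true)
    (h : zsum (ct P E) [(1, w ++ [7]), (e, [7]), (1, [8]), (2, [])] = true)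
    (hE : ∀ i : I12, ix i ∉ l → E.getD (ix i) 0 = 0) (hn : (Finset.univ.filter fun i : I12 => ix i ∈ l).card = n) :
    Eg (wm (ct P E) w) (-(e : ZMod 3)) ≤ 3 ^ n := by
  have h2 := zsum_spec (good_tab hg) h
  have e2 : ((2 : ℕ) : ZMod 3) = -1 := by decide
  simp only [List.map_cons, List.map_nil, List.sum_cons, List.sum_nil, Nat.cast_one, one_smul, wm_append, wm_one,
    wm_nil, e2, neg_one_smul, add_zero] at h2
  have h3 : (wm (ct P E) w + (e : ZMod 3) • (1 : M12)) * toM P + toM E = 1 := by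
    rw [add_mul, smul_mul_assoc, one_mul, ← sub_eq_zero, ← h2]
    show _ = wm (ct P E) w * toM P + ((e : ZMod 3) • toM P + (toM E + -1))
    abel
  have h4 := ker_le h3 (Finset.univ.filter fun i : I12 => ix i ∈ l) fun i hi => by
    funext j
    show ((dg (E.getD (ix i) 0) (ix j) : ℕ) : ZMod 3) = 0
    rw [hE i fun k => hi (Finset.mem_filter.2 ⟨Finset.mem_univ _, k⟩)]
    simp [dg]
  rw [hn] at h4
  refine le_trans (le_of_eq ?_) h4
  unfold Eg
  congr 1
  ext u
  simp only [Set.mem_ofPred_eq, vecMul_add, vecMul_smul, vecMul_one, neg_smul, add_eq_zero_iff_eq_neg]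

theorem Eg36 : Eg (wG (cmW [3] [4]) : GL12) 1 ≤ 3 ^ 6 := by
  have h := Eg_cert (w := [3, 4, 3, 4]) (l := [0, 1, 2, 3, 4, 6]) (e := 2) (n := 6)
    (P := [0x20201020000000000000000, 0x20002010200010000000000, 0x10101010000010000000000, 0x20102000200020000000000,
      0x100010100020000000000, 0, 0x10201010200020000000000, 0, 0, 0, 0, 0])
    (E := [0x10100020000020000000001, 0x202020000000000000100, 0x1010200010000010000, 0x10101000200020001000000,
      0x10200020200010100000000, 0, 0x10201020001000000000000, 0, 0, 0, 0, 0])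
    (by decide +kernel) (by decide +kernel) (by decide +kernel) (by decide +kernel)
  rw [show -((2 : ℕ) : ZMod 3) = 1 by decide] at h
  rw [coe_wG]
  exact h

theorem Eg0p : Eg (wG (cmW [5] [6]) : GL12) 1 ≤ 3 ^ 4 := by
  have h := Eg_cert (w := [5, 6, 5, 6]) (l := [0, 1, 3, 4]) (e := 2) (n := 4)
    (P := [0x10101000201010000000000, 0x201000002010000000000, 0x1000000000000010000, 0x2020002020000000000,
      0x10201000202020000000000, 0x1000000010000000000, 0x10202000101000000000000, 0, 0x10000000000000000, 0, 0, 0])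
    (E := [0x202000002020000000001, 0x100000201020000000100, 0, 0x10002010101010001000000, 0x1000001010100000000,
      0, 0, 0, 0, 0, 0, 0])
    (by decide +kernel) (by decide +kernel) (by decide +kernel) (by decide +kernel)
  rw [show -((2 : ℕ) : ZMod 3) = 1 by decide] at h
  rw [coe_wG]
  exact h

theorem Eg0m : Eg (wG (cmW [5] [6]) : GL12) (-1) ≤ 3 ^ 8 := by
  have h := Eg_cert (w := [5, 6, 5, 6]) (l := [0, 1, 2, 3, 4, 5, 6, 8]) (e := 1) (n := 8)
    (P := [0x201000100000000000000, 0x10102000100000000000000, 0, 0x10202000100000000000000,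
      0x20101000000000000000000, 0, 0, 0, 0, 0, 0, 0])
    (E := [0x10000000200000000000001, 0x1000200000000000100, 0x1000000000000010000, 0x10001000100000001000000,
      0x10202000200000100000000, 0x1000000010000000000, 0x10202000101000000000000, 0, 0x10000000000000000, 0, 0, 0])
    (by decide +kernel) (by decide +kernel) (by decide +kernel) (by decide +kernel)
  rw [Nat.cast_one] at h
  rw [coe_wG]
  exact h

theorem cube36 : wG (cmW [3] [4]) ^ 3 = 1 := by
  have h := word_one (w := [3, 4, 3, 4] ++ [3, 4, 3, 4] ++ [3, 4, 3, 4]) (w' := []) (by decide +kernel)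
  rw [List.map_append, List.map_append, List.prod_append, List.prod_append] at h
  rw [pow_succ, pow_two]
  exact h

theorem sq4 : wG [4] ^ 2 = -1 := by
  have h := word_neg (w := [4] ++ [4]) (w' := []) (by decide +kernel)
  rw [List.map_append, List.prod_append] at h
  rw [pow_two]
  exact h

theorem pow_of_conj {A X B : GL12} (h : X * B = B * A) (n : ℕ) : X ^ n * B = B * A ^ n := by
  induction n with
  | zero => rw [pow_zero, pow_zero, one_mul, mul_one]
  | succ n ih => rw [pow_succ, pow_succ, mul_assoc, h, ← mul_assoc, ih, mul_assoc]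

/-- **elements of order three of `2Suz`** -/
theorem three_le {A : GL12} (hA : A ∈ W) (h3 : A ^ 3 = 1) (h1 : A ≠ 1) :
    3 * Eg (A : M12) 1 * CW A ≤ 3 ^ 7 * (2 * 9797760) := by
  have : Fact (Nat.Prime 3) := ⟨Nat.prime_three⟩
  obtain ⟨s, hs⟩ := mem_W.1 hA
  have hs3 : s ^ 3 = 1 := φ_injective (by rw [map_pow, hs, ← QuotientGroup.mk_pow, h3, map_one]; rfl)
  have hs1 : s ≠ 1 := by
    rintro rfl
    rw [map_one, eq_comm] at hs
    rcases mk_eq_one.1 hs with k | k
    · exact h1 k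
    · rw [k, Odd.neg_one_pow (by decide)] at h3
      exact m1_ne h3
  rcases fam_three (orderOf_eq_prime hs3 hs1) with k | k | k
  · obtain ⟨B, hB, e⟩ := lift_conj hs (φ_sw _ (by decide)) (conj4 k)
    exact (Nat.mul_le_mul (Nat.mul_le_mul_left 3 (Eg_proper h1)) ((CW_conj hB e).trans c4)).trans (by norm_num)
  · have h4 : CW A ≤ 2 * CS s := by
      rw [← card_PC]
      exact card_le_of_le (inf_le_PC hs)
    exact (Nat.mul_le_mul (Nat.mul_le_mul_left 3 (Eg_le _ _)) (h4.trans (Nat.mul_le_mul_left 2 (cs_six k)))).trans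
      (by norm_num)
  · obtain ⟨B, hB, e⟩ := lift_conj hs (φ_sw _ (by decide)) (conj36 k)
    have e1 : wG (cmW [3] [4]) * B = B * A := by
      refine e.resolve_right fun e => ?_
      rw [← mul_neg] at e
      have h5 := pow_of_conj e 3
      rw [cube36, one_mul, Odd.neg_pow (by decide), h3, left_eq_mul] at h5
      exact m1_ne h5
    exact (Nat.mul_le_mul (Nat.mul_le_mul_left 3 ((Eg_conj e1 1).trans Eg36)) ((CW_conj hB e).trans c36)).trans
      (by norm_num)

/-- **involutions of `2Suz`** -/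
theorem two_le {A : GL12} {s : Suz} (hs : φ s = (QuotientGroup.mk A : QQ)) (h2 : A ^ 2 = 1) (h1 : s ≠ 1) :
    fam s = 0 ∧ Eg (A : M12) (-1) + Eg (A : M12) 1 ≤ 6642 := by
  have hs2 : s ^ 2 = 1 := φ_injective (by rw [map_pow, hs, ← QuotientGroup.mk_pow, h2, map_one]; rfl)
  rcases fam_two hs2 with k | k | k
  · exact absurd (fam_eq_one.1 k) h1
  · obtain ⟨B, -, e⟩ := lift_conj hs (φ_sw _ (by decide)) (conj0 k)
    have a1 := Eg0p
    have a2 := Eg0m
    refine ⟨k, ?_⟩
    rcases e with e | e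
    · have b1 := Eg_conj e 1
      have b2 := Eg_conj e (-1)
      omega
    · rw [← mul_neg] at e
      have b1 := Eg_conj e 1
      have b2 := Eg_conj e (-1)
      rw [Units.val_neg, Eg_neg] at b1 b2
      rw [neg_neg] at b2
      omega
  · exfalso
    obtain ⟨B, -, e⟩ := lift_conj hs (φ_sw _ (by decide)) (conj31 k)
    have e1 : wG [4] ^ 2 * B = B * A ^ 2 := by
      rcases e with e | e
      · exact pow_of_conj e 2
      · rw [← mul_neg] at e
        rw [pow_of_conj e 2, neg_sq]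
    rw [sq4, h2, mul_one, mul_eq_right] at e1
    exact m1_ne e1

end Cfsg.Agent.SP.Mon.D1
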