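import Cfsg.Agent.SP.Mon.D1.Gen

/-! # S5755, the Monster: counting in `3 ^ (1 + 12) . 2Suz` (helper22) -/

set_option autoImplicit false
set_option maxRecDepth 100000

namespace Cfsg.Agent.SP.Mon.D1

open Matrix Cfsg Subgroup Cfsg.Agent.H920.Sz12 Cfsg.Agent.TAB.C3B Cfsg.Agent.TAB.C3B.Cen Cfsg.Agent.TAB.C3B.Mod
open Cfsg.Spor (Suz)
open Cfsg.Agent.TID.Suz Cfsg.Agent.H714.S8.SuzFam

variable {D : Type*} [Group D] (m : TAB.C3B.Mod D)

/-- the map onto `Suz` -/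
noncomputable def pS : D →* Suz := MonoidHom.mk' (fun g => (mem_W.1 (m.R_mem g)).choose) fun a b => φ_injective (by
  rw [map_mul φ, (mem_W.1 (m.R_mem a)).choose_spec, (mem_W.1 (m.R_mem b)).choose_spec,
    (mem_W.1 (m.R_mem (a * b))).choose_spec, map_mul]
  rfl)

theorem φ_pS (g : D) : φ (pS m g) = (QuotientGroup.mk (m.R g) : QQ) := (mem_W.1 (m.R_mem g)).choose_spec

theorem pS_surj : Function.Surjective (pS m) := fun s => by
  obtain ⟨B, hB⟩ := QuotientGroup.mk_surjective (φ s)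
  obtain ⟨k, -, hk⟩ := m.R_surj B (mem_W.2 ⟨s, hB.symm⟩)
  exact ⟨k, φ_injective (by rw [φ_pS, hk, hB])⟩

variable {m}

theorem pS_eq {g h : D} (e : pS m g = pS m h) : m.R g = m.R h ∨ m.R g = -m.R h :=
  mk_eq_iff.1 (by rw [← φ_pS, ← φ_pS, e])

theorem pS_one {g : D} : pS m g = 1 ↔ m.R g = 1 ∨ m.R g = -1 := by
  rw [← mk_eq_one, ← φ_pS, map_eq_one_iff _ φ_injective]

theorem exists_K (g : D) : ∃ k, m.K k ∧ m.R g = m.R k := by
  obtain ⟨k, v, hk, rfl⟩ := m.dec g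
  exact ⟨k, hk, by rw [map_mul, m.R_β, mul_one]⟩

theorem exists_el_one {n : D} (h : m.R n = 1) : ∃ v c, n = m.el 1 v c := exists_el m.K_one (by rw [h, map_one])

theorem el_one_mul (v w : V12) (c d : ZMod 3) : m.el 1 v c * m.el 1 w d = m.el 1 (v + w) (fm v w + (c + d)) := by
  rw [el_mul m.K_one, map_one, Units.val_one, vecMul_one, mul_one]

theorem ker_cube {n : D} (h : m.R n = 1) : n ^ 3 = 1 := by
  obtain ⟨v, c, rfl⟩ := exists_el_one h
  rw [pow_succ, pow_two, el_one_mul, el_one_mul, fm_add_left, fm_self, add_zero, zero_add, zero_add, z3_three,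
    show v + v + v = 0 from funext fun j => z3_three _, el_zero_zero]

theorem card_ker (m : TAB.C3B.Mod D) : Nat.card m.R.ker = 3 ^ 13 := by
  have h2 : Nat.card (V12 × ZMod 3) = Nat.card m.R.ker := by
    refine Nat.card_congr (Equiv.ofBijective (fun p => ⟨m.el 1 p.1 p.2, by
      rw [MonoidHom.mem_ker, R_el, map_one]⟩) ⟨fun p q h => ?_, fun g => ?_⟩)
    · obtain ⟨h3, h4⟩ := el_inj m.K_one (congrArg Subtype.val h)
      exact Prod.ext h3 h4
    · obtain ⟨v, c, h⟩ := exists_el_one (m := m) g.2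
      exact ⟨(v, c), Subtype.ext h.symm⟩
  rw [← h2, Nat.card_prod, card_rows, Nat.card_zmod]
  norm_num

theorem ker_comm {a b : D} (ha : m.R a = 1) (hb : m.R b = 1) : ∃ c, a * b * a⁻¹ * b⁻¹ = m.X c := by
  obtain ⟨v, c, rfl⟩ := exists_el_one ha
  obtain ⟨w, d, rfl⟩ := exists_el_one hb
  refine ⟨fm v w - fm w v, ?_⟩
  rw [mul_inv_eq_iff_eq_mul, mul_inv_eq_iff_eq_mul, mul_assoc, ← m.X_cen, el_one_mul, el_one_mul, add_comm w v]
  unfold el
  rw [mul_assoc _ (m.X _), ← m.X_add]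
  congr 2
  ring

theorem ker_cen {a : D} (ha : m.R a = 1) (h : ∀ b, m.R b = 1 → a * b = b * a) : ∃ c, a = m.X c := by
  obtain ⟨v, c, rfl⟩ := exists_el_one ha
  have h1 : v = 0 := eq_zero_of_fm fun w => by
    have h2 := h (m.el 1 w 0) (by rw [R_el, map_one])
    rw [el_one_mul, el_one_mul] at h2
    have h3 := (el_inj m.K_one h2).2
    rw [fm_swap v w, add_zero, zero_add, add_left_inj] at h3
    exact z3_two _ (eq_neg_iff_add_eq_zero.1 h3)
  exact ⟨c, by rw [h1, el_zero, one_mul]⟩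

/-- the kernel of `pS` is invariant -/
theorem ker_inv {α : D →* D} (hα : Function.Surjective α) {g : D} (hg : pS m g = 1) : pS m (α g) = 1 := by
  have : IsSimpleGroup Suz := Cfsg.Agent.S1694.result.1
  have := fin_Suz
  have : Fact (Nat.Prime 5) := ⟨Nat.prime_five⟩
  have hs : Function.Surjective ((pS m).comp α) := (pS_surj m).comp hα
  rcases (Normal.map (inferInstance : (pS m).ker.Normal) _ hs).eq_bot_or_eq_top with h | h
  · have h1 : (pS m).comp α g ∈ (pS m).ker.map ((pS m).comp α) := ⟨g, hg, rfl⟩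
    rw [h] at h1
    exact h1
  · exfalso
    obtain ⟨s, hs⟩ := exists_prime_orderOf_dvd_card' (G := Suz) 5 (by
      rw [SporadicRecognition.SuzOrder.card_Suz]; norm_num)
    have h1 : s ∈ (pS m).ker.map ((pS m).comp α) := by rw [h]; trivial
    obtain ⟨k, hk, rfl⟩ := h1
    have h2 : (k ^ 2) ^ 3 = 1 := ker_cube (m := m) (by
      rw [map_pow]
      rcases pS_one.1 hk with e | e <;> rw [e] <;> simp)
    have h3 : (pS m).comp α k ^ 6 = 1 := by rw [← map_pow, show 6 = 2 * 3 from rfl, pow_mul, h2, map_one]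
    have h4 := orderOf_dvd_of_pow_eq_one h3
    rw [hs] at h4
    omega

theorem fibR (g₀ : D) : {g | m.R g = m.R g₀}.ncard ≤ 3 ^ 13 := by
  obtain ⟨k, hk, e⟩ := exists_K (m := m) g₀
  have h1 : {g | m.R g = m.R g₀} ⊆ (fun p : V12 × ZMod 3 => m.el k p.1 p.2) '' Set.univ := fun g hg => by
    obtain ⟨v, c, h⟩ := exists_el hk (Eq.trans hg e)
    exact ⟨(v, c), trivial, h.symm⟩
  refine (Set.ncard_le_ncard h1).trans ((Set.ncard_image_le).trans ?_)
  rw [Set.ncard_univ, Nat.card_prod, card_rows, Nat.card_zmod]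
  norm_num

theorem n_odd [Finite D] (m : TAB.C3B.Mod D) {p : ℕ} (hp : Odd p) : {g : D | g ^ p = 1}.ncard ≤ 3 ^ 13 * {s : Suz | s ^ p = 1}.ncard := by
  have := fin_Suz
  refine fib _ (pS m) (Set.toFinite _) _ (fun a ha => ?_) fun a ha => ?_
  · show pS m a ^ p = 1
    rw [← map_pow, show a ^ p = 1 from ha, map_one]
  · refine (Set.ncard_le_ncard fun g hg => ?_).trans (fibR (m := m) a)
    refine (pS_eq hg.2).resolve_right fun e => m1_ne ?_
    have h1 := congrArg (· ^ p) e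
    simp only [hp.neg_pow, ← map_pow, show a ^ p = 1 from ha, show g ^ p = 1 from hg.1, map_one] at h1
    exact h1.symm

/-- centralizers -/
theorem cent_le [Finite D] (y : D) : Nat.card (centralizer ({y} : Set D)) ≤ 3 * Eg (m.R y : M12) 1 * CW (m.R y) := by
  show (centralizer ({y} : Set D) : Set D).ncard ≤
    _ * ((W ⊓ centralizer ({m.R y} : Set GL12) : Subgroup GL12) : Set GL12).ncard
  refine fib _ m.R (Set.toFinite _) _ (fun a ha => ⟨m.R_mem a, mem_centralizer_singleton_iff.2 ?_⟩) fun a ha => ?_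
  · rw [← map_mul, ← map_mul, mem_centralizer_singleton_iff.1 ha]
  · obtain ⟨k, hk, e⟩ := exists_K (m := m) y
    obtain ⟨w, d, hy⟩ := exists_el hk e
    have h1 : {g | g ∈ (centralizer ({y} : Set D) : Set D) ∧ m.R g = m.R a} ⊆
        (fun p : ZMod 3 × V12 => a * m.el 1 p.2 p.1) '' (Set.univ ×ˢ {u | u ᵥ* (m.R y : M12) = (1 : ZMod 3) • u}) := by
      intro g hg
      obtain ⟨v, c, h⟩ := exists_el_one (m := m) (n := a⁻¹ * g) (by rw [map_mul, map_inv, hg.2, inv_mul_cancel])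
      refine ⟨(c, v), ⟨trivial, ?_⟩, by
        show a * m.el 1 v c = g
        rw [← h, mul_inv_cancel_left]⟩
      have h2 : a⁻¹ * g * y = y * (a⁻¹ * g) := mem_centralizer_singleton_iff.1 (mul_mem (inv_mem ha) hg.1)
      rw [h, hy, el_mul hk, el_mul m.K_one, map_one, Units.val_one, vecMul_one] at h2
      have h3 := vec_eq (m.K_one.mul hk) (hk.mul m.K_one) h2
      show v ᵥ* (m.R y : M12) = (1 : ZMod 3) • v
      rw [one_smul, e]
      exact add_right_cancel (h3.trans (add_comm _ _))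
    refine (Set.ncard_le_ncard h1).trans ((Set.ncard_image_le).trans ?_)
    rw [Set.ncard_prod, Set.ncard_univ, Nat.card_zmod]
    rfl

theorem cent_three [Finite D] {y : D} (h3 : y ^ 3 = 1) (h1 : m.R y ≠ 1) :
    Nat.card (centralizer ({y} : Set D)) ≤ 3 ^ 7 * (2 * 9797760) :=
  (cent_le y).trans (three_le (m.R_mem y) (by rw [← map_pow, h3, map_one]) h1)

theorem fib_two (A : GL12) : {t : D | t ^ 2 = 1 ∧ m.R t = A}.ncard ≤ Eg (A : M12) (-1) := by
  rcases Set.eq_empty_or_nonempty {t : D | t ^ 2 = 1 ∧ m.R t = A} with h | ⟨t₀, h1, rfl⟩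
  · rw [h, Set.ncard_empty]
    exact Nat.zero_le _
  obtain ⟨k, hk, e, hk2⟩ := m.exists_lift (m.R_mem t₀) (n := 2) (by decide) (by rw [← map_pow, h1, map_one])
  have h2 : {t : D | t ^ 2 = 1 ∧ m.R t = m.R t₀} ⊆
      (fun v : V12 => m.el k v 0) '' {u | u ᵥ* (m.R t₀ : M12) = (-1 : ZMod 3) • u} := by
    rintro g ⟨hg, hg'⟩
    obtain ⟨v, c, rfl⟩ := exists_el hk (hg'.trans e.symm)
    rw [el_pow hk, hk2] at hg
    obtain ⟨h3, h4⟩ := el_inj m.K_one (hg.trans (el_zero_zero (m := m) 1).symm)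
    simp only [ps, pq, zero_vecMul, zero_add, fm_zero_left] at h3 h4
    have h5 : v ᵥ* (m.R k : M12) = -v := eq_neg_of_add_eq_zero_left h3
    rw [h5, fm_neg_left, fm_self, neg_zero, zero_add, Nat.cast_ofNat, two_mul] at h4
    refine ⟨v, ?_, by rw [z3_two c h4]⟩
    show v ᵥ* (m.R t₀ : M12) = (-1 : ZMod 3) • v
    rw [← e, h5, neg_one_smul]
  exact (Set.ncard_le_ncard h2).trans Set.ncard_image_le

theorem fib_two' [Finite D] (a : D) :
    {t : D | t ^ 2 = 1 ∧ pS m t = pS m a}.ncard ≤ Eg (m.R a : M12) (-1) + Eg (m.R a : M12) 1 := by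
  have h1 : {t : D | t ^ 2 = 1 ∧ pS m t = pS m a} ⊆
      {t : D | t ^ 2 = 1 ∧ m.R t = m.R a} ∪ {t : D | t ^ 2 = 1 ∧ m.R t = -m.R a} := fun t ht =>
    (pS_eq ht.2).imp (fun h => ⟨ht.1, h⟩) fun h => ⟨ht.1, h⟩
  refine (Set.ncard_le_ncard h1).trans ((Set.ncard_union_le _ _).trans (Nat.add_le_add (fib_two _) ?_))
  have h2 := fib_two (m := m) (-m.R a)
  rwa [Units.val_neg, Eg_neg, neg_neg] at h2

/-- **involutions** -/
theorem n_two [Finite D] (m : TAB.C3B.Mod D) : {t : D | t ^ 2 = 1}.ncard ≤ 10 ^ 9 := by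
  have := fin_Suz
  have h1 : {t : D | t ^ 2 = 1} ⊆ {t : D | t ^ 2 = 1 ∧ pS m t = pS m 1} ∪ {t : D | t ^ 2 = 1 ∧ pS m t ≠ 1} := by
    intro t ht
    by_cases h : pS m t = 1
    · exact Or.inl ⟨ht, by rw [h, map_one]⟩
    · exact Or.inr ⟨ht, h⟩
  have h2 := (fib_two' (m := m) 1).trans (Nat.add_le_add (Eg_le _ _) (Eg_le _ _))
  have h0 : ∀ t : D, t ^ 2 = 1 → m.R t ^ 2 = 1 := fun t ht => by rw [← map_pow, ht, map_one]
  have h3 := fib {t : D | t ^ 2 = 1 ∧ pS m t ≠ 1} (pS m) (T := {s | fam s = 0}) (Set.toFinite _) 6642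
    (fun a ha => (two_le (φ_pS m a) (h0 a ha.1) ha.2).1) fun a ha =>
      le_trans (Set.ncard_le_ncard (t := {t : D | t ^ 2 = 1 ∧ pS m t = pS m a}) fun t ht => ⟨ht.1.1, ht.2⟩)
        ((fib_two' a).trans (two_le (φ_pS m a) (h0 a ha.1) ha.2).2)
  rw [fam_ncard, show SZ.getD 0 0 = 135135 from rfl] at h3
  exact (Set.ncard_le_ncard h1).trans ((Set.ncard_union_le _ _).trans ((Nat.add_le_add h2 h3).trans (by norm_num)))

/-- **elements inverted by an automorphism** -/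
theorem n_inv [Finite D] {α : D →* D} (hα : Function.Surjective α) {c : ℕ}
    (hc : ∀ a, α a = a⁻¹ → {d | α d = d⁻¹ ∧ m.R d = m.R a}.ncard ≤ c) : {d | α d = d⁻¹}.ncard ≤ 2 * c * 5760000 := by
  have := fin_Suz
  have h1 : (pS m '' {d | α d = d⁻¹}).ncard ≤ 5760000 := by
    refine sq_le ?_
    rintro _ ⟨d, hd, rfl⟩ _ ⟨e, he, rfl⟩ x ⟨d', hd', h1⟩ ⟨e', he', h2⟩
    have h3 : pS m (α ((d⁻¹ * d')⁻¹ * (e⁻¹ * e'))) = 1 := ker_inv hα (by
      simp only [map_mul, map_inv, h1, h2]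
      group)
    simp only [map_mul, map_inv, show α d = d⁻¹ from hd, show α d' = d'⁻¹ from hd', show α e = e⁻¹ from he,
      show α e' = e'⁻¹ from he', h1, h2] at h3
    rw [inv_mul_eq_one] at h3
    calc (pS m e)⁻¹ * pS m d * x = (pS m e)⁻¹ * ((pS m d)⁻¹⁻¹ * (pS m d * x)⁻¹)⁻¹ * pS m d := by group
      _ = _ := by rw [h3]; group
  refine le_trans (fib _ (pS m) (T := pS m '' {d | α d = d⁻¹}) (Set.toFinite _) (2 * c) (fun a ha => ⟨a, ha, rfl⟩)
    fun a ha => ?_) (Nat.mul_le_mul_left _ h1)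
  have h2 : {d | d ∈ {d | α d = d⁻¹} ∧ pS m d = pS m a} ⊆
      {d | α d = d⁻¹ ∧ m.R d = m.R a} ∪ {d | α d = d⁻¹ ∧ m.R d = -m.R a} := fun t ht =>
    (pS_eq ht.2).imp (fun h => ⟨ht.1, h⟩) fun h => ⟨ht.1, h⟩
  refine (Set.ncard_le_ncard h2).trans ((Set.ncard_union_le _ _).trans ?_)
  rw [two_mul]
  refine Nat.add_le_add (hc a ha) ?_
  rcases Set.eq_empty_or_nonempty {d | α d = d⁻¹ ∧ m.R d = -m.R a} with h | ⟨b, hb, hb'⟩
  · rw [h, Set.ncard_empty]
    exact Nat.zero_le _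
  · rw [← hb']
    exact hc b hb

end Cfsg.Agent.SP.Mon.D1
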